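import Groth.Agent.Lib.Serre.Regular
import Groth.Prelude.Def_CAlg
import Mathlib.Algebra.Category.ModuleCat.ChangeOfRings

/-!
# The Gorenstein property is invariant under ring isomorphisms
-/

set_option linter.style.haveILetI false
universe u

open CategoryTheory Limits

namespace GrothLib.GorEquiv

theorem hasInjectiveDimensionLT_map {C D : Type (u + 1)} [Category.{u} C] [Category.{u} D] [Abelian C] [Abelian D]
    [EnoughInjectives C] (e : C ≌ D) :
    ∀ (n : ℕ) (Y : C), HasInjectiveDimensionLT Y n → HasInjectiveDimensionLT (e.functor.obj Y) n := by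
  intro n
  induction n with
  | zero =>
    intro Y hY
    rw [hasInjectiveDimensionLT_zero_iff_isZero] at hY ⊢
    exact e.functor.map_isZero hY
  | succ n ih =>
    intro Y hY
    rcases n with _ | n
    · have h1 : Injective Y := injective_iff_hasInjectiveDimensionLT_one.2 hY
      exact injective_iff_hasInjectiveDimensionLT_one.1 ((e.map_injective_iff Y).2 h1)
    obtain ⟨p⟩ := EnoughInjectives.presentation Y
    let S := ShortComplex.mk p.f (cokernel.π p.f) (cokernel.condition p.f)
    have hS : S.ShortExact := { exact := ShortComplex.exact_cokernel p.f }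
    have h3 : HasInjectiveDimensionLT S.X₃ (n + 1) :=
      (hS.hasInjectiveDimensionLT_X₃_iff n p.injective).2 hY
    haveI : e.functor.Additive := Functor.additive_of_preserves_binary_products _
    haveI : Injective (S.map e.functor).X₂ := (e.map_injective_iff _).2 p.injective
    exact ((hS.map_of_exact e.functor).hasInjectiveDimensionLT_X₃_iff n inferInstance).1 (ih _ h3)

/-- The Gorenstein property is invariant under isomorphisms. -/
theorem of_ringEquiv {A B : Type u} [CommRing A] [CommRing B] (e : A ≃+* B)
    [h : LocCoh.IsGorensteinLocalRing A] : LocCoh.IsGorensteinLocalRing B := by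
  haveI := isNoetherianRing_of_ringEquiv A e
  haveI := e.isLocalRing
  obtain ⟨n, hn⟩ := h.exists_hasInjectiveDimensionLT
  refine { exists_hasInjectiveDimensionLT := ⟨n, ?_⟩ }
  haveI : HasInjectiveDimensionLT
      ((ModuleCat.restrictScalars.{u} e.symm.toRingHom).obj (ModuleCat.of A A)) n :=
    hasInjectiveDimensionLT_map (ModuleCat.restrictScalarsEquivalenceOfRingEquiv.{u} e.symm) n _ hn
  exact hasInjectiveDimensionLT_of_iso (ModuleCat.restrictScalarsIsoOfEquiv e.symm) n

end GrothLib.GorEquiv
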